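import Cfsg.Agent.Lib.Spor.GLTwoAmalgam.EZeroF.Part0
import Cfsg.Agent.Lib.Spor.GLTwoAmalgam.EZeroF.Part1

/-!
The case `[[n, m], r] = t`: the assembled checks.
-/

set_option autoImplicit false

namespace CfsgLib.Spor.GLTwoAmalgam.EZeroF

open CfsgLib.Spor.TC

theorem steps_ok : cert.SStepsOK 0 3697 :=
  (steps0.append _ steps2500)

set_option maxRecDepth 100000 in
theorem trace : cert.sTraceOK 3697 target 0x1ce2 = true := by decide +kernel

end CfsgLib.Spor.GLTwoAmalgam.EZeroF
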